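import Cfsg.Agent.Lib.Helper28.Ld.Defs

/-! # Project Ld: transport from standard coordinates to an arbitrary decomposition (piece TRANS) -/

set_option autoImplicit false

namespace Cfsg.Agent.Lib.Helper28.Ld

open Matrix

section phi

variable {κ : Type} [Fintype κ] [DecidableEq κ] {n : ℕ} {F : Type*} [Field F]

/-- the isomorphism `GL κ F ≃* GL (Fin n) F` attached to a basis of `F^n` indexed by `κ`. -/
noncomputable def Phi (b : Module.Basis κ F (Fin n → F)) :
    Matrix.GeneralLinearGroup κ F ≃* Matrix.GeneralLinearGroup (Fin n) F :=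
  (Matrix.GeneralLinearGroup.toLin' b).trans Matrix.GeneralLinearGroup.toLin.symm

theorem Phi_mulVec (b : Module.Basis κ F (Fin n → F)) (g : Matrix.GeneralLinearGroup κ F)
    (y : Fin n → F) :
    ((Phi b g : Matrix.GeneralLinearGroup (Fin n) F) : Matrix (Fin n) (Fin n) F) *ᵥ y =
      b.equivFun.symm ((g : Matrix κ κ F) *ᵥ (b.equivFun y)) := by
  have h1 : Matrix.GeneralLinearGroup.toLin (Phi b g) = Matrix.GeneralLinearGroup.toLin' b g := by
    unfold Phi
    simp
  have h2 := Matrix.GeneralLinearGroup.toLin_apply (A := Phi b g) y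
  rw [h1] at h2
  have h3 := Matrix.GeneralLinearGroup.toLin'_apply b g y
  rw [Matrix.mulVecLin_apply] at h2
  rw [← h2]
  refine Eq.trans ?_ (h3.trans ?_)
  · rfl
  · rw [Fintype.linearCombination_apply, Module.Basis.equivFun_symm_apply]
    rfl

theorem Phi_toLin (b : Module.Basis κ F (Fin n → F)) (g : Matrix.GeneralLinearGroup κ F) :
    Matrix.toLin' ((Phi b g : Matrix.GeneralLinearGroup (Fin n) F) : Matrix (Fin n) (Fin n) F) =
      (b.equivFun.symm : (κ → F) →ₗ[F] (Fin n → F)) ∘ₗ Matrix.toLin' (g : Matrix κ κ F) ∘ₗ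
        (b.equivFun.symm.symm : (Fin n → F) →ₗ[F] (κ → F)) := by
  apply LinearMap.ext
  intro y
  rw [Matrix.toLin'_apply, Phi_mulVec]
  simp

theorem Phi_det (b : Module.Basis κ F (Fin n → F)) (g : Matrix.GeneralLinearGroup κ F) :
    ((Phi b g : Matrix.GeneralLinearGroup (Fin n) F) : Matrix (Fin n) (Fin n) F).det =
      (g : Matrix κ κ F).det := by
  rw [← LinearMap.det_toLin', Phi_toLin, LinearMap.det_conj, LinearMap.det_toLin']

theorem Phi_SL (b : Module.Basis κ F (Fin n → F)) (g : Matrix.GeneralLinearGroup κ F) :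
    g ∈ Cfsg.Geo.specialLinear κ F ↔ Phi b g ∈ Cfsg.Geo.specialLinear (Fin n) F := by
  have hiff : ∀ {ι : Type} [Fintype ι] [DecidableEq ι] (x : Matrix.GeneralLinearGroup ι F),
      x ∈ Cfsg.Geo.specialLinear ι F ↔ (x : Matrix ι ι F).det = 1 := by
    intro ι _ _ x
    unfold Cfsg.Geo.specialLinear
    rw [MonoidHom.mem_ker]
    constructor
    · intro h
      have := congrArg Units.val h
      simpa using this
    · intro h
      ext
      simpa using h
  rw [hiff, hiff, Phi_det]

theorem Phi_stab {t : ℕ} (b : Module.Basis κ F (Fin n → F)) (E : Fin t → Submodule F (κ → F))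
    (D : Fin t → Submodule F (Fin n → F))
    (hED : ∀ i, (E i).map (b.equivFun.symm : (κ → F) →ₗ[F] (Fin n → F)) = D i)
    (g : Matrix.GeneralLinearGroup κ F) :
    g ∈ Cfsg.Geo.decompositionStabilizer E ↔ Phi b g ∈ Cfsg.Geo.decompositionStabilizer D := by
  have key : ∀ i j : Fin t,
      (E i).map (Matrix.toLin' (g : Matrix κ κ F)) = E j ↔
      (D i).map (Matrix.toLin'
        ((Phi b g : Matrix.GeneralLinearGroup (Fin n) F) : Matrix (Fin n) (Fin n) F)) = D j := by
    intro i j
    have h1 : (D i).map (Matrix.toLin'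
        ((Phi b g : Matrix.GeneralLinearGroup (Fin n) F) : Matrix (Fin n) (Fin n) F)) =
        ((E i).map (Matrix.toLin' (g : Matrix κ κ F))).map
          (b.equivFun.symm : (κ → F) →ₗ[F] (Fin n → F)) := by
      rw [← hED i, Phi_toLin, ← Submodule.map_comp, ← Submodule.map_comp]
      congr 1
      apply LinearMap.ext
      intro x
      show b.equivFun.symm (Matrix.toLin' (g : Matrix κ κ F)
        (b.equivFun.symm.symm (b.equivFun.symm x))) =
        b.equivFun.symm (Matrix.toLin' (g : Matrix κ κ F) x)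
      rw [LinearEquiv.symm_apply_apply]
    rw [h1, ← hED j]
    constructor
    · intro h
      rw [h]
    · intro h
      exact Submodule.map_injective_of_injective b.equivFun.symm.injective h
  constructor
  · rintro ⟨σ, hσ⟩
    exact ⟨σ, fun i => (key i (σ i)).mp (hσ i)⟩
  · rintro ⟨σ, hσ⟩
    exact ⟨σ, fun i => (key i (σ i)).mpr (hσ i)⟩

end phi

theorem isMaximalIn_of_equiv {G G' : Type*} [Group G] [Group G'] (φ : G ≃* G')
    {K H : Subgroup G} {K' H' : Subgroup G'} (hK : ∀ g, g ∈ K ↔ φ g ∈ K')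
    (hH : ∀ g, g ∈ H ↔ φ g ∈ H') (h : Cfsg.Geo.IsMaximalIn K H) :
    Cfsg.Geo.IsMaximalIn K' H' := by
  obtain ⟨hlt, hmax⟩ := h
  have hK' : ∀ x, x ∈ K' ↔ φ.symm x ∈ K := by
    intro x
    rw [hK, MulEquiv.apply_symm_apply]
  have hH' : ∀ x, x ∈ H' ↔ φ.symm x ∈ H := by
    intro x
    rw [hH, MulEquiv.apply_symm_apply]
  refine ⟨?_, ?_⟩
  · rw [SetLike.lt_iff_le_and_exists]
    refine ⟨fun x hx => (hK' x).mpr (hlt.le ((hH' x).mp hx)), ?_⟩
    obtain ⟨k, hk, hkn⟩ := SetLike.exists_of_lt hlt
    exact ⟨φ k, (hK k).mp hk, fun hc => hkn ((hH k).mpr hc)⟩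
  · intro M' hHM hMK
    have h1 : H ≤ M'.comap φ.toMonoidHom := fun g hg => hHM ((hH g).mp hg)
    have h2 : M'.comap φ.toMonoidHom ≤ K := fun g hg => (hK g).mpr (hMK hg)
    rcases hmax _ h1 h2 with h3 | h3
    · left
      apply le_antisymm _ hHM
      intro x hx
      rw [hH', ← h3]
      show φ (φ.symm x) ∈ M'
      rwa [MulEquiv.apply_symm_apply]
    · right
      apply le_antisymm hMK
      intro x hx
      have : φ.symm x ∈ M'.comap φ.toMonoidHom := by
        rw [h3]
        exact (hK' x).mp hx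
      have h4 : φ (φ.symm x) ∈ M' := this
      rwa [MulEquiv.apply_symm_apply] at h4

section build

variable {t m n : ℕ} {F : Type*} [Field F]

/-- a basis of `F^n` adapted to the decomposition `D`. -/
noncomputable def adaptedBasis (D : Fin t → Submodule F (Fin n → F))
    (hD : Cfsg.Geo.IsMDecomposition m D) : Module.Basis (Fin t × Fin m) F (Fin n → F) :=
  ((DirectSum.isInternal_submodule_of_iSupIndep_of_iSup_eq_top hD.indep
      hD.iSup_eq_top).collectedBasis
    (fun i => Module.finBasisOfFinrankEq F (D i) (hD.finrank_eq i))).reindex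
    (Equiv.sigmaEquivProd (Fin t) (Fin m))

theorem adaptedBasis_mem (D : Fin t → Submodule F (Fin n → F))
    (hD : Cfsg.Geo.IsMDecomposition m D) (p : Fin t × Fin m) :
    adaptedBasis D hD p ∈ D p.1 := by
  unfold adaptedBasis
  rw [Module.Basis.reindex_apply]
  exact DirectSum.IsInternal.collectedBasis_mem
    (DirectSum.isInternal_submodule_of_iSupIndep_of_iSup_eq_top hD.indep hD.iSup_eq_top)
    (fun i => Module.finBasisOfFinrankEq F (D i) (hD.finrank_eq i))
    ((Equiv.sigmaEquivProd (Fin t) (Fin m)).symm p)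

theorem adaptedBasis_repr (D : Fin t → Submodule F (Fin n → F))
    (hD : Cfsg.Geo.IsMDecomposition m D) (i : Fin t) (y : Fin n → F) (hy : y ∈ D i)
    (p : Fin t × Fin m) (hp : p.1 ≠ i) : (adaptedBasis D hD).repr y p = 0 := by
  unfold adaptedBasis
  rw [Module.Basis.repr_reindex_apply]
  exact DirectSum.IsInternal.collectedBasis_repr_of_mem_ne
    (DirectSum.isInternal_submodule_of_iSupIndep_of_iSup_eq_top hD.indep hD.iSup_eq_top)
    (fun i => Module.finBasisOfFinrankEq F (D i) (hD.finrank_eq i)) (Ne.symm hp) hy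

theorem adapted_map (D : Fin t → Submodule F (Fin n → F))
    (hD : Cfsg.Geo.IsMDecomposition m D) (i : Fin t) :
    (stdBlock t m F i).map
      ((adaptedBasis D hD).equivFun.symm : (Fin t × Fin m → F) →ₗ[F] (Fin n → F)) = D i := by
  apply le_antisymm
  · rintro _ ⟨x, hx, rfl⟩
    show (adaptedBasis D hD).equivFun.symm x ∈ D i
    rw [Module.Basis.equivFun_symm_apply]
    apply Submodule.sum_mem
    intro p _
    by_cases hp : p.1 = i
    · rw [← hp]
      exact Submodule.smul_mem _ _ (adaptedBasis_mem D hD p)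
    · rw [hx p hp, zero_smul]
      exact Submodule.zero_mem _
  · intro y hy
    refine ⟨(adaptedBasis D hD).equivFun y, ?_, ?_⟩
    · intro p hp
      exact adaptedBasis_repr D hD i y hy p hp
    · show (adaptedBasis D hD).equivFun.symm ((adaptedBasis D hD).equivFun y) = y
      exact (adaptedBasis D hD).equivFun.symm_apply_apply y

theorem card_eq (D : Fin t → Submodule F (Fin n → F))
    (hD : Cfsg.Geo.IsMDecomposition m D) : t * m = n := by
  have h1 := Module.finrank_eq_card_basis (adaptedBasis D hD)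
  rw [Module.finrank_fintype_fun_eq_card, Fintype.card_fin, Fintype.card_prod, Fintype.card_fin,
    Fintype.card_fin] at h1
  exact h1.symm

theorem transport (D : Fin t → Submodule F (Fin n → F))
    (hD : Cfsg.Geo.IsMDecomposition m D)
    (hstd : Cfsg.Geo.IsMaximalIn (Cfsg.Geo.specialLinear (Fin t × Fin m) F) (H0 t m F)) :
    Cfsg.Geo.IsMaximalIn (Cfsg.Geo.specialLinear (Fin n) F)
      (Cfsg.Geo.decompositionStabilizer D ⊓ Cfsg.Geo.specialLinear (Fin n) F) := by
  refine isMaximalIn_of_equiv (Phi (adaptedBasis D hD)) (Phi_SL _) ?_ hstd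
  intro g
  unfold H0 Hs
  rw [Subgroup.mem_inf, Subgroup.mem_inf, ← Phi_SL,
    Phi_stab (adaptedBasis D hD) (stdBlock t m F) D (adapted_map D hD)]

end build

end Cfsg.Agent.Lib.Helper28.Ld
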