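import Cfsg.Agent.Lib.Helper28.Ld.Defs

/-! # Project Ld: calculus of roots (piece CALC) and generation of `SL` (piece FIN) -/

set_option autoImplicit false

namespace Cfsg.Agent.Lib.Helper28.Ld

open Matrix

variable {ι : Type} [Fintype ι] [DecidableEq ι] {F : Type*} [Field F]

theorem gl_ext (g1 g2 : Matrix.GeneralLinearGroup ι F)
    (h : ∀ x, (g1 : Matrix ι ι F) *ᵥ x = (g2 : Matrix ι ι F) *ᵥ x) : g1 = g2 :=
  Units.ext (Matrix.ext_iff_mulVec.mpr h)

theorem gl_inv_mulVec (g : Matrix.GeneralLinearGroup ι F) (x : ι → F) :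
    ((g⁻¹ : Matrix.GeneralLinearGroup ι F) : Matrix ι ι F) *ᵥ ((g : Matrix ι ι F) *ᵥ x) = x := by
  rw [Matrix.mulVec_mulVec, ← Units.val_mul, inv_mul_cancel, Units.val_one, Matrix.one_mulVec]

theorem gl_mulVec_inv (g : Matrix.GeneralLinearGroup ι F) (x : ι → F) :
    (g : Matrix ι ι F) *ᵥ (((g⁻¹ : Matrix.GeneralLinearGroup ι F) : Matrix ι ι F) *ᵥ x) = x := by
  rw [Matrix.mulVec_mulVec, ← Units.val_mul, mul_inv_cancel, Units.val_one, Matrix.one_mulVec]

theorem tvmat_mulVec (v r x : ι → F) :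
    (1 + Matrix.vecMulVec v r) *ᵥ x = x + (r ⬝ᵥ x) • v := by
  rw [Matrix.add_mulVec, Matrix.one_mulVec, Matrix.vecMulVec_mulVec]
  congr 1
  funext i
  simp [mul_comm]

theorem exists_tv (v r : ι → F) (h : r ⬝ᵥ v = 0) :
    ∃ g : Matrix.GeneralLinearGroup ι F, IsTv g v r ∧ (g : Matrix ι ι F).det = 1 := by
  have hdet : (1 + Matrix.vecMulVec v r).det = 1 := by
    rw [Matrix.vecMulVec_eq Unit, Matrix.det_one_add_replicateCol_mul_replicateRow, h, add_zero]
  refine ⟨Matrix.GeneralLinearGroup.mkOfDetNeZero (1 + Matrix.vecMulVec v r)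
    (by rw [hdet]; exact one_ne_zero), ?_, ?_⟩
  · intro x
    exact tvmat_mulVec v r x
  · exact hdet

theorem isTv_unique {g g' : Matrix.GeneralLinearGroup ι F} {v r : ι → F}
    (h : IsTv g v r) (h' : IsTv g' v r) : g = g' :=
  gl_ext _ _ (fun x => by rw [h x, h' x])

theorem T_conj {M : Subgroup (Matrix.GeneralLinearGroup ι F)} {g : Matrix.GeneralLinearGroup ι F}
    (hg : g ∈ M) {v r : ι → F} (h : T M v r) :
    T M ((g : Matrix ι ι F) *ᵥ v) (r ᵥ* ((g⁻¹ : Matrix.GeneralLinearGroup ι F) : Matrix ι ι F)) := by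
  refine ⟨?_, ?_⟩
  · rw [← Matrix.dotProduct_mulVec, gl_inv_mulVec]
    exact h.1
  · intro c g' hg'
    have key : IsTv (g⁻¹ * g' * g) (c • v) r := by
      intro x
      rw [Units.val_mul, Units.val_mul, ← Matrix.mulVec_mulVec, ← Matrix.mulVec_mulVec, hg',
        Matrix.mulVec_add, gl_inv_mulVec, Matrix.mulVec_smul, ← Matrix.mulVec_smul,
        Matrix.mulVec_smul, Matrix.mulVec_smul, gl_inv_mulVec, ← Matrix.dotProduct_mulVec,
        gl_inv_mulVec]
    have hmem := h.2 c _ key
    have : g' = g * (g⁻¹ * g' * g) * g⁻¹ := by group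
    rw [this]
    exact M.mul_mem (M.mul_mem hg hmem) (M.inv_mem hg)

theorem T_add_left {M : Subgroup (Matrix.GeneralLinearGroup ι F)} {v v' r : ι → F}
    (h : T M v r) (h' : T M v' r) : T M (v + v') r := by
  refine ⟨by rw [dotProduct_add, h.1, h'.1, add_zero], ?_⟩
  intro c g hg
  obtain ⟨g1, hg1, -⟩ := exists_tv (c • v) r (by rw [dotProduct_smul, h.1, smul_zero])
  obtain ⟨g2, hg2, -⟩ := exists_tv (c • v') r (by rw [dotProduct_smul, h'.1, smul_zero])
  have : g = g1 * g2 := by
    apply gl_ext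
    intro x
    rw [Units.val_mul, ← Matrix.mulVec_mulVec, hg2, hg1, hg, dotProduct_add, dotProduct_smul,
      dotProduct_smul, h'.1, smul_zero, smul_zero, add_zero, smul_add, smul_add]
    abel
  rw [this]
  exact M.mul_mem (h.2 c g1 hg1) (h'.2 c g2 hg2)

theorem T_add_right {M : Subgroup (Matrix.GeneralLinearGroup ι F)} {v r r' : ι → F}
    (h : T M v r) (h' : T M v r') : T M v (r + r') := by
  refine ⟨by rw [add_dotProduct, h.1, h'.1, add_zero], ?_⟩
  intro c g hg
  obtain ⟨g1, hg1, -⟩ := exists_tv (c • v) r (by rw [dotProduct_smul, h.1, smul_zero])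
  obtain ⟨g2, hg2, -⟩ := exists_tv (c • v) r' (by rw [dotProduct_smul, h'.1, smul_zero])
  have : g = g1 * g2 := by
    apply gl_ext
    intro x
    rw [Units.val_mul, ← Matrix.mulVec_mulVec, hg2, hg1, hg, dotProduct_add, dotProduct_smul,
      dotProduct_smul, h.1, smul_zero, smul_zero, add_zero, add_dotProduct, add_smul]
    abel
  rw [this]
  exact M.mul_mem (h.2 c g1 hg1) (h'.2 c g2 hg2)

theorem T_smul_left {M : Subgroup (Matrix.GeneralLinearGroup ι F)} {v r : ι → F} (a : F)
    (h : T M v r) : T M (a • v) r := by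
  refine ⟨by rw [dotProduct_smul, h.1, smul_zero], ?_⟩
  intro c g hg
  apply h.2 (c * a) g
  intro x
  rw [hg x, smul_smul c a v]

theorem T_smul_right {M : Subgroup (Matrix.GeneralLinearGroup ι F)} {v r : ι → F} (a : F)
    (h : T M v r) : T M v (a • r) := by
  refine ⟨by rw [smul_dotProduct, h.1, smul_zero], ?_⟩
  intro c g hg
  apply h.2 (a * c) g
  intro x
  rw [hg x, smul_dotProduct, smul_smul, smul_smul, smul_eq_mul]
  congr 2
  ring

theorem T_zero_left (M : Subgroup (Matrix.GeneralLinearGroup ι F)) (r : ι → F) : T M 0 r := by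
  refine ⟨dotProduct_zero r, ?_⟩
  intro c g hg
  have : g = 1 := by
    apply gl_ext
    intro x
    rw [hg x, smul_zero, smul_zero, add_zero, Units.val_one, Matrix.one_mulVec]
  rw [this]
  exact M.one_mem

theorem T_zero_right (M : Subgroup (Matrix.GeneralLinearGroup ι F)) (v : ι → F) : T M v 0 := by
  refine ⟨zero_dotProduct v, ?_⟩
  intro c g hg
  have : g = 1 := by
    apply gl_ext
    intro x
    rw [hg x, zero_dotProduct, zero_smul, add_zero, Units.val_one, Matrix.one_mulVec]
  rw [this]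
  exact M.one_mem

theorem T_sub_left {M : Subgroup (Matrix.GeneralLinearGroup ι F)} {v v' r : ι → F}
    (h : T M v r) (h' : T M v' r) : T M (v - v') r := by
  have := T_add_left h (T_smul_left (-1) h')
  rwa [neg_one_smul, ← sub_eq_add_neg] at this

theorem T_sub_right {M : Subgroup (Matrix.GeneralLinearGroup ι F)} {v r r' : ι → F}
    (h : T M v r) (h' : T M v r') : T M v (r - r') := by
  have := T_add_right h (T_smul_right (-1) h')
  rwa [neg_one_smul, ← sub_eq_add_neg] at this

theorem T_of_smul_left {M : Subgroup (Matrix.GeneralLinearGroup ι F)} {v r : ι → F} {a : F}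
    (ha : a ≠ 0) (h : T M (a • v) r) : T M v r := by
  have := T_smul_left a⁻¹ h
  rwa [smul_smul, inv_mul_cancel₀ ha, one_smul] at this

theorem T_of_smul_right {M : Subgroup (Matrix.GeneralLinearGroup ι F)} {v r : ι → F} {a : F}
    (ha : a ≠ 0) (h : T M v (a • r)) : T M v r := by
  have := T_smul_right a⁻¹ h
  rwa [smul_smul, inv_mul_cancel₀ ha, one_smul] at this

/-- the key commutator lemma. -/
theorem T_L3 {M : Subgroup (Matrix.GeneralLinearGroup ι F)} {u φ v ψ : ι → F}
    (h1 : T M u φ) (h2 : T M v ψ) (h3 : φ ⬝ᵥ v = 0) (h4 : ψ ⬝ᵥ u ≠ 0) : T M v φ := by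
  obtain ⟨B, hB, -⟩ := exists_tv v ψ h2.1
  have hBM : B ∈ M := h2.2 1 B (by rwa [one_smul])
  have hc := T_conj hBM h1
  have e1 : (B : Matrix ι ι F) *ᵥ u = u + (ψ ⬝ᵥ u) • v := hB u
  have e2 : φ ᵥ* ((B⁻¹ : Matrix.GeneralLinearGroup ι F) : Matrix ι ι F) = φ := by
    obtain ⟨B', hB', -⟩ := exists_tv (-v) ψ (by rw [dotProduct_neg, h2.1, neg_zero])
    have hBB' : B⁻¹ = B' := by
      rw [inv_eq_iff_mul_eq_one]
      apply gl_ext
      intro x
      rw [Units.val_mul, ← Matrix.mulVec_mulVec, hB', hB, dotProduct_add, dotProduct_smul,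
        dotProduct_neg, h2.1, neg_zero, smul_zero, add_zero, Units.val_one, Matrix.one_mulVec,
        smul_neg]
      abel
    rw [hBB']
    have : ∀ x, (φ ᵥ* (B' : Matrix ι ι F)) ⬝ᵥ x = φ ⬝ᵥ x := by
      intro x
      rw [← Matrix.dotProduct_mulVec, hB', dotProduct_add, dotProduct_smul, dotProduct_neg, h3,
        neg_zero, smul_zero, add_zero]
    funext i
    have := this (Pi.single i 1)
    simpa using this
  rw [e1, e2] at hc
  have h5 := T_sub_left hc h1
  rw [add_sub_cancel_left] at h5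
  exact T_of_smul_left h4 h5

/-! ## Piece FIN -/

theorem tv_apply (i j : ι) (a : F) (z : ι → F) (k : ι) :
    ((1 + Matrix.single i j a) *ᵥ z) k = z k + if k = i then a * z j else 0 := by
  rw [Matrix.add_mulVec, Matrix.one_mulVec, Matrix.single_mulVec_eq]
  simp [Pi.single_apply]

theorem diag_eq {i j : ι} (hij : i ≠ j) (c : F) (hc : c ≠ 0) :
    Matrix.SpecialLinearGroup.diag2n hij c hc =
      Matrix.SpecialLinearGroup.transvection hij.symm (-(c - 1) / c) *
        Matrix.SpecialLinearGroup.transvection hij 1 *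
        Matrix.SpecialLinearGroup.transvection hij.symm (c - 1) *
        Matrix.SpecialLinearGroup.transvection hij (-c⁻¹) := by
  apply Subtype.ext
  rw [Matrix.ext_iff_mulVec]
  intro y
  funext k
  simp only [Matrix.SpecialLinearGroup.coe_mul, Matrix.SpecialLinearGroup.transvection_coe,
    Matrix.SpecialLinearGroup.diag2n_coe, ← Matrix.mulVec_mulVec, tv_apply,
    Matrix.mulVec_diagonal]
  by_cases hki : k = i
  · subst hki
    simp [hij, hij.symm]
    field_simp
    ring
  · by_cases hkj : k = j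
    · subst hkj
      simp [hij, hij.symm]
      field_simp
      ring
    · simp [hki, hkj]

theorem SL_le_of_elem [Nontrivial ι] (M : Subgroup (Matrix.GeneralLinearGroup ι F))
    (h : ∀ p q : ι, p ≠ q → T M (Pi.single p 1) (Pi.single q 1)) :
    Cfsg.Geo.specialLinear ι F ≤ M := by
  intro g hg
  have hdet : (g : Matrix ι ι F).det = 1 := by
    have h1 : Matrix.GeneralLinearGroup.det g = 1 := MonoidHom.mem_ker.mp hg
    have h2 := congrArg Units.val h1
    simpa using h2
  have hA : Matrix.SpecialLinearGroup.toGL (⟨g.val, hdet⟩ : Matrix.SpecialLinearGroup ι F)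
      = g := Units.ext rfl
  rw [← hA]
  have htr : ∀ (i j : ι) (hij : i ≠ j) (a : F),
      Matrix.SpecialLinearGroup.toGL (Matrix.SpecialLinearGroup.transvection hij a) ∈ M := by
    intro i j hij a
    apply (h i j hij).2 a
    intro x
    funext k
    rw [Matrix.SpecialLinearGroup.coe_GL_coe_matrix, Matrix.SpecialLinearGroup.transvection_coe,
      tv_apply]
    simp [Pi.single_apply, mul_comm]
  refine Matrix.SpecialLinearGroup.diagonal_transvection_induction'
    (fun B => Matrix.SpecialLinearGroup.toGL B ∈ M) _ ?_ htr ?_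
  · intro i j hij c hc
    show Matrix.SpecialLinearGroup.toGL (Matrix.SpecialLinearGroup.diag2n hij c hc) ∈ M
    rw [diag_eq hij c hc]
    simp only [map_mul]
    exact M.mul_mem (M.mul_mem (M.mul_mem (htr _ _ _ _) (htr _ _ _ _)) (htr _ _ _ _))
      (htr _ _ _ _)
  · intro A B hA hB
    show Matrix.SpecialLinearGroup.toGL (A * B) ∈ M
    rw [map_mul]
    exact M.mul_mem hA hB

end Cfsg.Agent.Lib.Helper28.Ld
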