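import Mathlib
import Cfsg.Prelude.Def_GeometricClasses

/-!
# Project Ld (S5634, blocks of dimension at least two): definitions

Overgroups in `SL` of the stabiliser of the standard decomposition of `F^(Fin t × Fin m)` into the
`t` coordinate blocks `E_i = {x | x p = 0 for p.1 ≠ i}`.  Covectors are vectors used through the
dot product.  See `PLAN.md` in this folder.
-/

set_option autoImplicit false

namespace Cfsg.Agent.Lib.Helper28.Ld

open Matrix

section general

variable {ι : Type} [Fintype ι] [DecidableEq ι] {F : Type*} [Field F]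

/-- `g` acts as `x ↦ x + (r · x) v`. -/
def IsTv (g : Matrix.GeneralLinearGroup ι F) (v r : ι → F) : Prop :=
  ∀ x : ι → F, (g : Matrix ι ι F) *ᵥ x = x + (r ⬝ᵥ x) • v

/-- `r · v = 0` and the whole root subgroup `{x ↦ x + (r · x) c v}` lies in `M`. -/
def T (M : Subgroup (Matrix.GeneralLinearGroup ι F)) (v r : ι → F) : Prop :=
  r ⬝ᵥ v = 0 ∧ ∀ (c : F) (g : Matrix.GeneralLinearGroup ι F), IsTv g (c • v) r → g ∈ M

end general

section blocks

variable {t m : ℕ} {F : Type*} [Field F]

/-- `x` is supported on the coordinate block `i`. -/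
def InBlk (i : Fin t) (x : Fin t × Fin m → F) : Prop :=
  ∀ p : Fin t × Fin m, p.1 ≠ i → x p = 0

/-- the `i`-th coordinate block as a subspace. -/
def stdBlock (t m : ℕ) (F : Type*) [Field F] (i : Fin t) : Submodule F (Fin t × Fin m → F) where
  carrier := {x | InBlk i x}
  add_mem' := by
    intro a b ha hb p hp
    rw [Pi.add_apply, ha p hp, hb p hp, add_zero]
  zero_mem' := fun _ _ => rfl
  smul_mem' := by
    intro c a ha p hp
    rw [Pi.smul_apply, ha p hp, smul_zero]

theorem mem_stdBlock (i : Fin t) (x : Fin t × Fin m → F) :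
    x ∈ stdBlock t m F i ↔ InBlk i x := Iff.rfl

/-- the stabiliser in `GL` of the standard decomposition. -/
def Hs (t m : ℕ) (F : Type*) [Field F] : Subgroup (Matrix.GeneralLinearGroup (Fin t × Fin m) F) :=
  Cfsg.Geo.decompositionStabilizer (stdBlock t m F)

/-- the stabiliser in `SL` of the standard decomposition. -/
def H0 (t m : ℕ) (F : Type*) [Field F] : Subgroup (Matrix.GeneralLinearGroup (Fin t × Fin m) F) :=
  Hs t m F ⊓ Cfsg.Geo.specialLinear (Fin t × Fin m) F

/-- the part of `x` on block `k`. -/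
def res (k : Fin t) (x : Fin t × Fin m → F) : Fin t × Fin m → F :=
  fun p => if p.1 = k then x p else 0

/-- standard basis vector. -/
def ee (p : Fin t × Fin m) : Fin t × Fin m → F := Pi.single p 1

/-- a root `(a, s)` in `M` with `a ≠ 0` in block `k` and `s ≠ 0` vanishing on block `k`. -/
def Cross (M : Subgroup (Matrix.GeneralLinearGroup (Fin t × Fin m) F)) : Prop :=
  ∃ (k : Fin t) (a s : Fin t × Fin m → F),
    InBlk k a ∧ a ≠ 0 ∧ res k s = 0 ∧ s ≠ 0 ∧ T M a s

/-- a root `(w, b)` in `M` with `b ≠ 0` in block `k` and `w ≠ 0` vanishing on block `k`. -/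
def Cross' (M : Subgroup (Matrix.GeneralLinearGroup (Fin t × Fin m) F)) : Prop :=
  ∃ (k : Fin t) (w b : Fin t × Fin m → F),
    InBlk k b ∧ b ≠ 0 ∧ res k w = 0 ∧ w ≠ 0 ∧ T M w b

end blocks

end Cfsg.Agent.Lib.Helper28.Ld
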