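import Cfsg.Agent.Lib.Helper28.Ld.Calc
import Cfsg.Agent.Lib.Helper11.LdSTAB
import Cfsg.Agent.Lib.Helper1.LdA3
import Cfsg.Agent.Lib.Helper1.LdA2
import Cfsg.Agent.Lib.Helper1.LdAF
import Cfsg.Agent.Lib.Helper24.LdSPREAD
import Cfsg.Agent.Lib.Helper24.LdPERM

/-! # Project Ld: maximality of the stabiliser of the standard decomposition, blocks of dimension `≥ 2` -/

set_option autoImplicit false

namespace Cfsg.Agent.Lib.Helper28.Ld

open Matrix

variable {t m : ℕ} {F : Type*} [Field F]

theorem elem_block_root (M : Subgroup (Matrix.GeneralLinearGroup (Fin t × Fin m) F))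
    (hHM : H0 t m F ≤ M) (p q : Fin t × Fin m) (hpq : p ≠ q) (h1 : p.1 = q.1) :
    T M (ee p : Fin t × Fin m → F) (ee q) := by
  apply Cfsg.Agent.Lib.Helper11.Ld.block_root M hHM p.1
  · intro a ha
    have : a ≠ p := fun h => ha (by rw [h])
    simp [ee, this]
  · intro a ha
    have : a ≠ q := fun h => ha (by rw [h, h1])
    simp [ee, this]
  · simp [ee, hpq.symm]

theorem std_max [Fintype F] (ht : 2 ≤ t) (hm : 2 ≤ m) (hn : 13 ≤ t * m)
    (h2 : ¬ (m = 2 ∧ Fintype.card F = 2)) :
    Cfsg.Geo.IsMaximalIn (Cfsg.Geo.specialLinear (Fin t × Fin m) F) (H0 t m F) := by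
  refine ⟨Cfsg.Agent.Lib.Helper11.Ld.H0_lt_SL ht (by omega), ?_⟩
  intro M hHM hMS
  by_cases hMH : M ≤ Hs t m F
  · left
    exact le_antisymm (fun g hg => Subgroup.mem_inf.mpr ⟨hMH hg, hMS hg⟩) hHM
  · right
    refine le_antisymm hMS ?_
    have hcross : Cross M ∨ Cross' M := by
      by_contra hno
      push Not at hno
      apply hMH
      intro g hg
      apply Cfsg.Agent.Lib.Helper1.Ld.mem_Hs_of_single hm M hHM _ g hg
      by_cases hm3 : 3 ≤ m
      · exact Cfsg.Agent.Lib.Helper1.Ld.single_block_three hm3 M hHM hno.1 hno.2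
      · have hm2 : m = 2 := by omega
        subst hm2
        have hq : ∃ c : F, c ≠ 0 ∧ c ≠ 1 := by
          have hcard : 2 < Fintype.card F := by
            have h1 : 1 < Fintype.card F := Fintype.one_lt_card
            have : Fintype.card F ≠ 2 := fun h => h2 ⟨rfl, h⟩
            omega
          classical
          have hex : ∃ c : F, c ∉ ({0, 1} : Finset F) := by
            by_contra hcon
            push Not at hcon
            have hsub : (Finset.univ : Finset F) ⊆ {0, 1} := fun c _ => hcon c
            have hle := Finset.card_le_card hsub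
            have hle2 : ({0, 1} : Finset F).card ≤ 2 := Finset.card_le_two
            rw [Finset.card_univ] at hle
            omega
          obtain ⟨c, hc⟩ := hex
          refine ⟨c, fun h0 => hc (by simp [h0]), fun h1 => hc (by simp [h1])⟩
        exact Cfsg.Agent.Lib.Helper1.Ld.single_block_two hq (by omega) M hHM hno.1 hno.2
    obtain ⟨k, j, hkj, hsp⟩ := Cfsg.Agent.Lib.Helper24.Ld.spread hm M hHM hcross
    have hall := Cfsg.Agent.Lib.Helper24.Ld.perm_spread M hHM k j hkj hsp
    have : Nontrivial (Fin t × Fin m) := by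
      have : Nonempty (Fin t) := ⟨⟨0, by omega⟩⟩
      have : Nontrivial (Fin m) := Fin.nontrivial_iff_two_le.mpr hm
      infer_instance
    apply SL_le_of_elem M
    intro p q hpq
    by_cases h1 : p.1 = q.1
    · exact elem_block_root M hHM p q hpq h1
    · exact hall p q h1

end Cfsg.Agent.Lib.Helper28.Ld
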