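import Cfsg.Agent.Lib.Helper28.Ld.Calc
import Cfsg.Agent.Lib.Helper11.LdSTAB
import Cfsg.Agent.Lib.Helper29.ExtrL.Main

/-! # Project Ld: one-dimensional blocks in standard coordinates (from EXTRACTION-L) -/

set_option autoImplicit false

namespace Cfsg.Agent.Lib.Helper28.Ld

open Matrix Cfsg.Agent.Lib.Helper29.ExtrL Cfsg.Agent.Lib.Helper11.Ld

variable {t : ℕ} {F : Type*} [Field F]

theorem mem_SL_iff_det {ι : Type} [Fintype ι] [DecidableEq ι]
    (x : Matrix.GeneralLinearGroup ι F) :
    x ∈ Cfsg.Geo.specialLinear ι F ↔ (x : Matrix ι ι F).det = 1 := by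
  unfold Cfsg.Geo.specialLinear
  rw [MonoidHom.mem_ker]
  constructor
  · intro h
    have := congrArg Units.val h
    simpa using this
  · intro h
    ext
    simpa using h

/-- a monomial matrix stabilises the standard frame. -/
theorem mono_mem_Hs (g : Matrix.GeneralLinearGroup (Fin t × Fin 1) F)
    (hg : IsMono (g : Matrix (Fin t × Fin 1) (Fin t × Fin 1) F)) : g ∈ Hs t 1 F := by
  classical
  choose f hf using hg
  have hinj : Function.Injective f := by
    intro a b hab
    exact gl_colAt_inj g (hf a) (hab ▸ hf b)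
  have hbij : Function.Bijective f := Finite.injective_iff_bijective.mp hinj
  -- the induced permutation of `Fin t`
  have hinj' : Function.Injective (fun i : Fin t => (f (i, 0)).1) := by
    intro i j hij
    have h1 : f (i, 0) = f (j, 0) := by
      apply Prod.ext
      · exact hij
      · exact Subsingleton.elim _ _
    have h2 := hinj h1
    exact congrArg Prod.fst h2
  have hbij' : Function.Bijective (fun i : Fin t => (f (i, 0)).1) :=
    Finite.injective_iff_bijective.mp hinj'
  apply mem_Hs_of_entries g (Equiv.ofBijective _ hbij')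
  intro p q hpq
  have hq : q = (q.1, 0) := Prod.ext rfl (Subsingleton.elim _ _)
  have hp : p = f q := by
    by_contra hne
    exact hpq (hf q p hne)
  rw [Equiv.ofBijective_apply, hp]
  show (f q).1 = (f (q.1, 0)).1
  rw [← hq]

/-- an element of `Hs t 1 F` is monomial. -/
theorem mono_of_mem_Hs (g : Matrix.GeneralLinearGroup (Fin t × Fin 1) F)
    (hg : g ∈ Hs t 1 F) : IsMono (g : Matrix (Fin t × Fin 1) (Fin t × Fin 1) F) := by
  obtain ⟨σ, hσ⟩ := maps_of_mem_Hs g hg
  intro a
  refine ⟨(σ a.1, 0), ?_⟩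
  intro i hi
  have h1 : InBlk a.1 (Pi.single a (1 : F) : Fin t × Fin 1 → F) := by
    intro p hp
    have : p ≠ a := fun h => hp (by rw [h])
    simp [this]
  have h2 := hσ a.1 _ h1 i (by
    intro hc
    apply hi
    exact Prod.ext hc (Subsingleton.elim _ _))
  simpa using h2

theorem std_max_one [Fintype F] (ht : 13 ≤ t) (hq : 5 ≤ Fintype.card F) :
    Cfsg.Geo.IsMaximalIn (Cfsg.Geo.specialLinear (Fin t × Fin 1) F) (H0 t 1 F) := by
  refine ⟨H0_lt_SL (by omega) le_rfl, ?_⟩
  intro M hHM hMS
  by_cases hMH : M ≤ Hs t 1 F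
  · left
    exact le_antisymm (fun g hg => Subgroup.mem_inf.mpr ⟨hMH hg, hMS hg⟩) hHM
  · right
    refine le_antisymm hMS ?_
    obtain ⟨g₀, hg₀, hg₀n⟩ := SetLike.not_le_iff_exists.mp hMH
    have hcard : 13 ≤ Fintype.card (Fin t × Fin 1) := by
      rw [Fintype.card_prod, Fintype.card_fin, Fintype.card_fin]
      omega
    have hIn : InSL M := fun g hg => (mem_SL_iff_det g).mp (hMS hg)
    have hMono : HasMonoSL M := by
      intro g hg hdet
      exact hHM (Subgroup.mem_inf.mpr ⟨mono_mem_Hs g hg, (mem_SL_iff_det g).mpr hdet⟩)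
    have hall := extraction hq hcard M hIn hMono g₀ hg₀ (fun h => hg₀n (mono_mem_Hs g₀ h))
    intro g hg
    exact hall g ((mem_SL_iff_det g).mp hg)

end Cfsg.Agent.Lib.Helper28.Ld
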